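import Mathlib
/-!
A double cover of the alternating group of degree 8 from eight anticommuting signed permutation matrices over the
field with three elements.
-/
set_option autoImplicit false

namespace Cfsg.Agent.Lib.Spor.Spin

open Equiv Matrix

/-- Positions of the eight monomial matrices. -/
def tT : Fin 8 → Fin 16 → Fin 16 :=
  ![![8, 9, 10, 11, 12, 13, 14, 15, 0, 1, 2, 3, 4, 5, 6, 7],
    ![9, 8, 11, 10, 13, 12, 15, 14, 1, 0, 3, 2, 5, 4, 7, 6],
    ![10, 11, 8, 9, 14, 15, 12, 13, 2, 3, 0, 1, 6, 7, 4, 5],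
    ![11, 10, 9, 8, 15, 14, 13, 12, 3, 2, 1, 0, 7, 6, 5, 4],
    ![12, 13, 14, 15, 8, 9, 10, 11, 4, 5, 6, 7, 0, 1, 2, 3],
    ![13, 12, 15, 14, 9, 8, 11, 10, 5, 4, 7, 6, 1, 0, 3, 2],
    ![14, 15, 12, 13, 10, 11, 8, 9, 6, 7, 4, 5, 2, 3, 0, 1],
    ![15, 14, 13, 12, 11, 10, 9, 8, 7, 6, 5, 4, 3, 2, 1, 0]]

/-- Signs of the eight monomial matrices. -/
def tS : Fin 8 → Fin 16 → ZMod 3 :=
  ![![1, 1, 1, 1, 1, 1, 1, 1, 1, 1, 1, 1, 1, 1, 1, 1],
    ![2, 1, 2, 1, 2, 1, 1, 2, 1, 2, 1, 2, 1, 2, 2, 1],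
    ![2, 1, 1, 2, 2, 2, 1, 1, 1, 2, 2, 1, 1, 1, 2, 2],
    ![2, 2, 1, 1, 2, 1, 2, 1, 1, 1, 2, 2, 1, 2, 1, 2],
    ![2, 1, 1, 1, 1, 2, 2, 2, 1, 2, 2, 2, 2, 1, 1, 1],
    ![2, 2, 1, 2, 1, 1, 1, 2, 1, 1, 2, 1, 2, 2, 2, 1],
    ![2, 2, 2, 1, 1, 2, 1, 1, 1, 1, 1, 2, 2, 1, 2, 2],
    ![2, 1, 2, 2, 1, 1, 2, 1, 1, 2, 1, 1, 2, 2, 1, 2]]

theorem tab_facts : ∀ i r, tT i (tT i r) = r ∧ tS i (tT i r) = tS i r ∧ tS i r * tS i r = 1 := by decide +kernel

theorem tab_anti : ∀ i j, i ≠ j → ∀ r, tT j (tT i r) = tT i (tT j r) ∧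
    tS i r * tS j (tT i r) = - (tS j r * tS i (tT j r)) := by decide +kernel

/-- The monomial matrices. -/
def γ (i : Fin 8) : Matrix (Fin 16) (Fin 16) (ZMod 3) := Matrix.of fun r c => if tT i r = c then tS i r else 0

theorem γ_mul (i : Fin 8) (M : Matrix (Fin 16) (Fin 16) (ZMod 3)) (r c : Fin 16) :
    (γ i * M) r c = tS i r * M (tT i r) c := by
  simp [γ, Matrix.mul_apply, ite_mul]

theorem mul_γ (i : Fin 8) (M : Matrix (Fin 16) (Fin 16) (ZMod 3)) (r c : Fin 16) :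
    (M * γ i) r c = M r (tT i c) * tS i c := by
  have h : ∀ k, (tT i k = c) ↔ (k = tT i c) := fun k =>
    ⟨fun e => by rw [← e, (tab_facts i k).1], fun e => by rw [e, (tab_facts i c).1]⟩
  simp [γ, Matrix.mul_apply, mul_ite, h, (tab_facts i c).2.1]

theorem γ_sq (i : Fin 8) : γ i * γ i = 1 := by
  ext r c
  rw [γ_mul]
  simp only [γ, Matrix.of_apply, (tab_facts i r).1, (tab_facts i r).2.1, Matrix.one_apply]
  split_ifs
  · exact (tab_facts i r).2.2
  · rw [mul_zero]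

theorem γ_anti {i j : Fin 8} (h : i ≠ j) : γ i * γ j = -(γ j * γ i) := by
  ext r c
  rw [Matrix.neg_apply, γ_mul, γ_mul]
  simp only [γ, Matrix.of_apply, (tab_anti i j h r).1, mul_ite, mul_zero, (tab_anti i j h r).2]
  split_ifs <;> simp

/-- Follow a word through the tables. -/
def run : List (Fin 8) → Fin 16 → Fin 16 × ZMod 3
  | [], r => (r, 1)
  | i :: w, r => ((run w (tT i r)).1, tS i r * (run w (tT i r)).2)

theorem run_comm {M : Matrix (Fin 16) (Fin 16) (ZMod 3)} (hM : ∀ i, γ i * M = M * γ i) :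
    ∀ (w : List (Fin 8)) (r c : Fin 16), M (run w r).1 (run w c).1 = (run w r).2 * (run w c).2 * M r c
  | [], r, c => by simp [run]
  | i :: w, r, c => by
    simp only [run]
    rw [run_comm hM w]
    have h := congrFun (congrFun (hM i) r) (tT i c)
    rw [γ_mul, mul_γ, (tab_facts i c).1, (tab_facts i c).2.1] at h
    have e : M (tT i r) (tT i c) = tS i r * tS i c * M r c := by
      calc M (tT i r) (tT i c) = tS i r * tS i r * M (tT i r) (tT i c) := by rw [(tab_facts i r).2.2, one_mul]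
        _ = tS i r * (M r c * tS i c) := by rw [mul_assoc, h]
        _ = _ := by ring
    rw [e]
    ring

/-- Words with diagonal action. -/
def diagWords : List (List (Fin 8)) :=
  [[0, 1, 2, 3], [0, 1, 4, 5], [0, 1, 6, 7], [0, 2, 4, 6], [0, 2, 5, 7], [0, 3, 4, 7], [0, 3, 5, 6],
   [1, 2, 4, 7], [1, 2, 5, 6], [1, 3, 4, 6], [1, 3, 5, 7], [2, 3, 4, 5], [2, 3, 6, 7], [4, 5, 6, 7],
   [0, 1, 2, 3, 4, 5, 6, 7]]

/-- Words moving the first position to each position. -/
def moveWords : List (List (Fin 8)) :=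
  [[], [0, 1], [0, 2], [0, 3], [0, 4], [0, 5], [0, 6], [0, 7], [0], [1], [2], [3], [4], [5], [6], [7]]

theorem diag_check : ∀ r c : Fin 16, r ≠ c → ∃ w ∈ diagWords,
    (run w r).1 = r ∧ (run w c).1 = c ∧ (run w r).2 * (run w c).2 = -1 := by decide +kernel

theorem move_check : ∀ r : Fin 16, ∃ w ∈ moveWords, (run w 0).1 = r ∧ (run w 0).2 * (run w 0).2 = 1 := by
  decide +kernel

theorem comm_scalar {M : Matrix (Fin 16) (Fin 16) (ZMod 3)} (hM : ∀ i, γ i * M = M * γ i) :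
    M = M 0 0 • 1 := by
  ext r c
  rw [Matrix.smul_apply, Matrix.one_apply, smul_eq_mul]
  by_cases h : r = c
  · subst h
    obtain ⟨w, -, h1, h2⟩ := move_check r
    have := run_comm hM w 0 0
    rw [h1, h2, one_mul] at this
    rw [this, if_pos rfl, mul_one]
  · obtain ⟨w, -, h1, h2, h3⟩ := diag_check r c h
    have := run_comm hM w r c
    rw [h1, h2, h3] at this
    rw [if_neg h, mul_zero]
    revert this
    exact (show ∀ a : ZMod 3, a = -1 * a → a = 0 by decide) _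

/-- Matrices over the field with three elements. -/
abbrev Mat := Matrix (Fin 16) (Fin 16) (ZMod 3)

/-- Root matrix of a transposition. -/
def root (a b : Fin 8) : Mat := γ a - γ b

theorem three_zero : (3 : Mat) = 0 := by
  ext r c
  change (Matrix.of fun i j : Fin 16 => (3 : Mat) i j) r c = 0
  simp [Matrix.ofNat_apply]
  exact fun _ => by decide

theorem root_sq {a b : Fin 8} (h : a ≠ b) : root a b * root a b = -1 := by
  have h2 : root a b * root a b = (2 : ℤ) • (1 : Mat) := by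
    rw [root]
    simp only [sub_mul, mul_sub, γ_sq, γ_anti h]
    abel
  rw [h2, two_zsmul, ← add_eq_zero_iff_eq_neg, ← three_zero]
  norm_num

theorem root_γ {a b : Fin 8} (h : a ≠ b) (x : Fin 8) : root a b * γ x = -(γ (swap a b x) * root a b) := by
  simp only [root, sub_mul, mul_sub]
  rcases eq_or_ne x a with rfl | ha
  · rw [swap_apply_left, γ_sq, γ_sq]; abel
  rcases eq_or_ne x b with rfl | hb
  · rw [swap_apply_right, γ_sq, γ_sq]; abel
  rw [swap_apply_of_ne_of_ne ha hb, γ_anti (Ne.symm ha), γ_anti (Ne.symm hb)]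
  abel

/-- Root matrices as units. -/
def rootU {a b : Fin 8} (h : a ≠ b) : Matˣ :=
  ⟨root a b, -root a b, by rw [mul_neg, root_sq h, neg_neg], by rw [neg_mul, root_sq h, neg_neg]⟩

theorem root_anti {a b c d : Fin 8} (hac : a ≠ c) (had : a ≠ d) (hbc : b ≠ c) (hbd : b ≠ d) :
    root a b * root c d = -(root c d * root a b) := by
  simp only [root, sub_mul, mul_sub, γ_anti hac, γ_anti had, γ_anti hbc, γ_anti hbd]
  abel

theorem lift_exists (σ : Perm (Fin 8)) :
    ∃ u : Matˣ, ∀ i, (u : Mat) * γ i = ((Perm.sign σ : ℤ) : Mat) * (γ (σ i) * u) := by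
  refine Perm.swap_induction_on σ ⟨1, fun i => by simp⟩ ?_
  rintro f x y hxy ⟨u, hu⟩
  refine ⟨rootU hxy * u, fun i => ?_⟩
  rw [Units.val_mul, Matrix.mul_assoc, hu i, Perm.sign_mul, Perm.sign_swap hxy]
  have hr : (rootU hxy : Mat) = root x y := rfl
  rw [hr, ← Matrix.mul_assoc, ← Matrix.mul_assoc]
  have hc : root x y * ((Perm.sign f : ℤ) : Mat) = ((Perm.sign f : ℤ) : Mat) * root x y := by
    rw [← Int.cast_comm]
  rw [hc, Matrix.mul_assoc _ (root x y), root_γ hxy, Perm.mul_apply]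
  simp [Matrix.mul_assoc, Matrix.mul_neg, Matrix.neg_mul]

/-- The cover. -/
def cover : Subgroup (↥(alternatingGroup (Fin 8)) × Matˣ) where
  carrier := {p | ∀ i, (p.2 : Mat) * γ i = γ ((p.1 : Perm (Fin 8)) i) * p.2}
  mul_mem' := by
    intro p q hp hq i
    simp only [Prod.snd_mul, Prod.fst_mul, Units.val_mul, Subgroup.coe_mul, Perm.mul_apply]
    rw [Matrix.mul_assoc, hq i, ← Matrix.mul_assoc, hp, Matrix.mul_assoc]
  one_mem' := by intro i; simp
  inv_mem' := by
    intro p hp i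
    have h := hp ((p.1 : Perm (Fin 8))⁻¹ i)
    rw [← Perm.mul_apply, mul_inv_cancel, Perm.one_apply] at h
    simp only [Prod.snd_inv, Prod.fst_inv, Subgroup.coe_inv]
    rw [Units.inv_mul_eq_iff_eq_mul, ← Matrix.mul_assoc, h, Matrix.mul_assoc, Units.mul_inv, Matrix.mul_one]

/-- The map to the alternating group. -/
def proj : ↥cover →* ↥(alternatingGroup (Fin 8)) :=
  (MonoidHom.fst _ _).comp cover.subtype

theorem proj_surjective : Function.Surjective proj := by
  intro σ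
  obtain ⟨u, hu⟩ := lift_exists σ
  refine ⟨⟨(σ, u), fun i => ?_⟩, rfl⟩
  rw [hu i, Perm.mem_alternatingGroup.1 σ.2]
  simp

theorem zero_ne_one : (1 : Mat) ≠ -1 := fun h => by
  have := congrFun (congrFun h 0) 0
  simp at this
  revert this
  decide

theorem ker_cases {p : ↥cover} (h : proj p = 1) : (p.1.2 : Mat) = 1 ∨ (p.1.2 : Mat) = -1 := by
  have h1 : ∀ i, γ i * (p.1.2 : Mat) = (p.1.2 : Mat) * γ i := fun i => by
    rw [p.2 i]
    have : p.1.1 = 1 := h
    simp [this]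
  have h2 := comm_scalar h1
  rcases (show ∀ a : ZMod 3, a = 0 ∨ a = 1 ∨ a = -1 by decide) ((p.1.2 : Mat) 0 0) with e | e | e
  · exfalso
    rw [e, zero_smul] at h2
    have := p.1.2.mul_inv
    rw [h2, Matrix.zero_mul] at this
    exact _root_.zero_ne_one this
  · exact Or.inl (by rw [h2, e, one_smul])
  · exact Or.inr (by rw [h2, e, neg_smul, one_smul])

/-- The central involution. -/
def zed : ↥cover := ⟨(1, -1), fun i => by simp⟩

theorem zed_ne : zed ≠ 1 := fun h => by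
  have := congrArg (fun p : ↥cover => (p.1.2 : Mat)) h
  simp [zed] at this
  exact zero_ne_one this.symm

theorem zed_sq : zed * zed = 1 := Subtype.ext (Prod.ext (by simp [zed]) (Units.ext (by simp [zed])))

theorem mem_ker_iff {p : ↥cover} : proj p = 1 ↔ p = 1 ∨ p = zed := by
  refine ⟨fun h => ?_, ?_⟩
  · rcases ker_cases h with e | e
    · exact Or.inl (Subtype.ext (Prod.ext h (Units.ext e)))
    · exact Or.inr (Subtype.ext (Prod.ext h (Units.ext (by rw [e]; simp [zed]))))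
  · rintro (rfl | rfl) <;> rfl

end Cfsg.Agent.Lib.Spor.Spin
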