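import Cfsg.Prelude.Def_SporadicB
import Cfsg.Agent.Lib.Spor.Spin.SpinEight
/-!
Involutions of double covers of alternating groups of small degree, and the cover of degree eight.
-/
set_option autoImplicit false

namespace Cfsg.Agent.Lib.Spor.Spin

open Equiv Subgroup

variable {H : Type*} [Group H]

theorem center_pair (hZ : Nat.card (center H) = 2) :
    ∃ z : H, z ≠ 1 ∧ z ∈ center H ∧ z * z = 1 ∧ ∀ w ∈ center H, w = 1 ∨ w = z := by
  obtain ⟨a, b, hab, huniv⟩ := Nat.card_eq_two_iff.1 hZ
  have hall : ∀ c : center H, c = a ∨ c = b := fun c => by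
    have : c ∈ ({a, b} : Set (center H)) := huniv ▸ Set.mem_univ c
    simpa using this
  obtain ⟨z, hz, hzall⟩ : ∃ z : center H, z ≠ 1 ∧ ∀ c : center H, c = 1 ∨ c = z := by
    rcases hall 1 with h | h
    · exact ⟨b, fun e => hab (h.symm.trans e.symm), fun c => (hall c).imp (fun e => e.trans h.symm) id⟩
    · exact ⟨a, fun e => hab (e.trans h), fun c => ((hall c).symm).imp (fun e => e.trans h.symm) id⟩
  refine ⟨z, fun e => hz (Subtype.ext e), z.2, ?_, fun w hw => (hzall ⟨w, hw⟩).imp (congrArg Subtype.val) (congrArg Subtype.val)⟩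
  rcases hzall (z * z) with e | e
  · exact congrArg Subtype.val e
  · exact absurd (mul_eq_left.1 e) hz

theorem split_of_odd_index [Finite H] (hZ : Nat.card (center H) = 2) (L : Subgroup H)
    (hL : ∀ w ∈ center H, w ∈ L → w = 1) (hodd : Odd (center H ⊔ L).index) :
    ∃ C : Subgroup H, (center H).IsComplement' C := by
  classical
  obtain ⟨z, hz1, hzc, hzz, hzall⟩ := center_pair hZ
  have hzL : z ∉ L := fun h => hz1 (hL z hzc h)
  have hcomm : ∀ w : H, w * z = z * w := fun w => Subgroup.mem_center_iff.1 hzc w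
  let S := center H ⊔ L
  have hdec : ∀ s : S, (s : H) ∈ L ∨ z * (s : H) ∈ L := by
    intro s
    obtain ⟨a, ha, l, hl, e⟩ := Subgroup.mem_sup_of_normal_left.1 s.2
    rcases hzall a ha with rfl | rfl
    · exact Or.inl (by rw [← e, one_mul]; exact hl)
    · exact Or.inr (by rw [← e, ← mul_assoc, hzz, one_mul]; exact hl)
  let φ : S →* Multiplicative (ZMod 2) :=
    MonoidHom.mk' (fun s => if (s : H) ∈ L then 1 else Multiplicative.ofAdd 1) (fun s t => by
      show (if ((s : H) * t) ∈ L then (1 : Multiplicative (ZMod 2)) else _) = _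
      by_cases hs : (s : H) ∈ L
      · rw [if_pos hs, one_mul]
        simp only [L.mul_mem_cancel_left hs]
      by_cases ht : (t : H) ∈ L
      · rw [if_pos ht, mul_one]
        simp only [L.mul_mem_cancel_right ht]
      have hs' := (hdec s).resolve_left hs
      have ht' := (hdec t).resolve_left ht
      have : (s : H) * t ∈ L := by
        have e : (s : H) * t = (z * s) * (z * t) := by
          rw [mul_assoc z, ← mul_assoc (s : H) z, hcomm s, mul_assoc z (s : H), ← mul_assoc, hzz, one_mul]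
        rw [e]
        exact L.mul_mem hs' ht'
      rw [if_pos this, if_neg hs, if_neg ht]
      decide)
  have hzS : z ∈ S := Subgroup.mem_sup_left hzc
  have hφz : φ ⟨z, hzS⟩ = Multiplicative.ofAdd 1 := if_neg hzL
  let ψ := MonoidHom.transfer φ
  have key : ∀ (k : ℕ) (g₀ : H), g₀⁻¹ * z ^ k * g₀ ∈ S → g₀⁻¹ * z ^ k * g₀ = z ^ k := fun k g₀ _ => by
    rw [mul_assoc, ← Subgroup.mem_center_iff.1 (pow_mem hzc k) g₀, inv_mul_cancel_left]
  have hψz : ψ z = Multiplicative.ofAdd 1 := by
    have h1 := MonoidHom.transfer_eq_pow φ z key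
    have e : (⟨z ^ S.index, MonoidHom.transfer_eq_pow_aux z key⟩ : S) = ⟨z, hzS⟩ := by
      refine Subtype.ext ?_
      obtain ⟨k, hk⟩ := hodd
      show z ^ S.index = z
      rw [hk, pow_succ, pow_mul, pow_two, hzz, one_pow, one_mul]
    rw [h1, e, hφz]
  refine ⟨ψ.ker, Subgroup.isComplement'_of_disjoint_and_mul_eq_univ ?_ ?_⟩
  · refine disjoint_iff_inf_le.2 fun w ⟨hw1, hw2⟩ => ?_
    rcases hzall w hw1 with rfl | rfl
    · exact Subgroup.mem_bot.2 rfl
    · exfalso
      have hw2 : ψ w = 1 := hw2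
      rw [hψz] at hw2
      exact absurd hw2 (by decide)
  · refine Set.eq_univ_of_forall fun w => ?_
    rcases (show ∀ a : Multiplicative (ZMod 2), a = 1 ∨ a = Multiplicative.ofAdd 1 by decide) (ψ w) with h | h
    · exact ⟨1, one_mem _, w, h, one_mul w⟩
    · refine ⟨z, hzc, z * w, ?_, show z * (z * w) = w by rw [← mul_assoc, hzz, one_mul]⟩
      show ψ (z * w) = 1
      rw [map_mul, hψz, h]
      decide

/-- The candidates for a dihedral group generated by two involutions. -/
theorem closure_pair_subset [Finite H] {A B : H} (hA : A * A = 1) (hB : B * B = 1) :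
    ∀ g ∈ Subgroup.closure ({A, B} : Set H), ∃ (k : ℕ), g = (A * B) ^ k ∨ g = (A * B) ^ k * A := by
  have hfin : 0 < orderOf (A * B) := orderOf_pos _
  obtain ⟨m, hm⟩ : ∃ m, orderOf (A * B) = m + 1 := ⟨orderOf (A * B) - 1, by omega⟩
  have hinv : (A * B) ^ m * (A * B) = 1 := by rw [← pow_succ, ← hm, pow_orderOf_eq_one]
  have hBA : B * A = (A * B) ^ m := by
    refine mul_right_cancel (b := A * B) ?_
    rw [hinv, mul_assoc, ← mul_assoc A, hA, one_mul, hB]
  have hAk : ∀ k : ℕ, A * (A * B) ^ k = ((A * B) ^ m) ^ k * A := by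
    intro k
    induction k with
    | zero => simp
    | succ k ih =>
      rw [pow_succ, ← mul_assoc, ih, pow_succ ((A * B) ^ m), ← hBA]
      rw [mul_assoc, mul_assoc, mul_assoc B A A, hA, mul_one, ← mul_assoc A A, hA, one_mul]
  intro g hg
  induction hg using Subgroup.closure_induction_left with
  | one => exact ⟨0, Or.inl (pow_zero _).symm⟩
  | mul_left x hx y _ ih =>
    obtain ⟨k, hk⟩ := ih
    rcases hx with rfl | rfl
    · rcases hk with rfl | rfl
      · exact ⟨m * k, Or.inr (by rw [pow_mul]; exact hAk k)⟩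
      · exact ⟨m * k, Or.inl (by rw [pow_mul, ← mul_assoc, hAk k, mul_assoc, hA, mul_one])⟩
    · have hBk : ∀ j : ℕ, x * (A * x) ^ j = (A * x) ^ (m + m * j) * A := fun j => by
        have : x = (A * x) ^ m * A := by rw [← hBA, mul_assoc, hA, mul_one]
        calc x * (A * x) ^ j = (A * x) ^ m * A * (A * x) ^ j := by rw [← this]
          _ = (A * x) ^ m * (((A * x) ^ m) ^ j * A) := by rw [mul_assoc, hAk j]
          _ = _ := by rw [← mul_assoc, ← pow_mul, ← pow_add]
      rcases hk with rfl | rfl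
      · exact ⟨_, Or.inr (hBk k)⟩
      · exact ⟨m + m * k, Or.inl (by rw [← mul_assoc, hBk k, mul_assoc, hA, mul_one])⟩
  | inv_mul_cancel x hx y _ ih =>
    obtain ⟨k, hk⟩ := ih
    rcases hx with rfl | rfl
    · rw [inv_eq_of_mul_eq_one_left hA]
      rcases hk with rfl | rfl
      · exact ⟨m * k, Or.inr (by rw [pow_mul]; exact hAk k)⟩
      · exact ⟨m * k, Or.inl (by rw [pow_mul, ← mul_assoc, hAk k, mul_assoc, hA, mul_one])⟩
    · rw [inv_eq_of_mul_eq_one_left hB]
      have hBk : ∀ j : ℕ, x * (A * x) ^ j = (A * x) ^ (m + m * j) * A := fun j => by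
        have : x = (A * x) ^ m * A := by rw [← hBA, mul_assoc, hA, mul_one]
        calc x * (A * x) ^ j = (A * x) ^ m * A * (A * x) ^ j := by rw [← this]
          _ = (A * x) ^ m * (((A * x) ^ m) ^ j * A) := by rw [mul_assoc, hAk j]
          _ = _ := by rw [← mul_assoc, ← pow_mul, ← pow_add]
      rcases hk with rfl | rfl
      · exact ⟨_, Or.inr (hBk k)⟩
      · exact ⟨m + m * k, Or.inl (by rw [← mul_assoc, hBk k, mul_assoc, hA, mul_one])⟩

theorem card_closure_pair [Finite H] {A B : H} (hA : A * A = 1) (hB : B * B = 1) {m : ℕ} (hm : 0 < m)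
    (hAB : (A * B) ^ m = 1) : Nat.card (Subgroup.closure ({A, B} : Set H)) ≤ 2 * m := by
  classical
  let f : Fin m × Bool → H := fun p => if p.2 then (A * B) ^ (p.1 : ℕ) * A else (A * B) ^ (p.1 : ℕ)
  have hsub : (Subgroup.closure ({A, B} : Set H) : Set H) ⊆ Set.range f := by
    intro g hg
    obtain ⟨k, hk⟩ := closure_pair_subset hA hB g hg
    have e : (A * B) ^ k = (A * B) ^ (k % m) := pow_eq_pow_mod k hAB
    rcases hk with rfl | rfl
    · exact ⟨(⟨k % m, Nat.mod_lt _ hm⟩, false), by simp [f, ← e]⟩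
    · exact ⟨(⟨k % m, Nat.mod_lt _ hm⟩, true), by simp [f, ← e]⟩
  calc Nat.card (Subgroup.closure ({A, B} : Set H)) = (Subgroup.closure ({A, B} : Set H) : Set H).ncard := rfl
    _ ≤ (Set.range f).ncard := Set.ncard_le_ncard hsub
    _ ≤ 2 * m := by
      rw [← Nat.card_coe_set_eq]
      refine (Finite.card_range_le f).trans ?_
      simp [Nat.card_eq_fintype_card, mul_comm]

/-- Double transpositions of an alternating group form a single class. -/
theorem alt_conj {n : ℕ} (a : ↥(alternatingGroup (Fin n))) (b : ↥(alternatingGroup (Fin n)))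
    (p q : Fin n) (hpq : p ≠ q) (hfix : Commute (swap p q) (a : Perm (Fin n)))
    (h : (b : Perm (Fin n)).cycleType = (a : Perm (Fin n)).cycleType) :
    ∃ c : ↥(alternatingGroup (Fin n)), b = c * a * c⁻¹ := by
  obtain ⟨c, hc⟩ := isConj_iff.1 (Perm.isConj_iff_cycleType_eq.2 h.symm)
  rcases Int.units_eq_one_or (Perm.sign c) with hs | hs
  · exact ⟨⟨c, Perm.mem_alternatingGroup.2 hs⟩, Subtype.ext hc.symm⟩
  · refine ⟨⟨c * swap p q, Perm.mem_alternatingGroup.2 (by rw [map_mul, hs, Perm.sign_swap hpq]; rfl)⟩,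
      Subtype.ext ?_⟩
    show (b : Perm (Fin n)) = c * swap p q * a * (c * swap p q)⁻¹
    rw [mul_inv_rev, mul_assoc c, hfix.eq, ← hc]
    group

/-- An involution of an alternating group of degree at most seven is a double transposition. -/
theorem cycleType_small {n : ℕ} (hn : n ≤ 7) (σ : ↥(alternatingGroup (Fin n))) (h : σ * σ = 1) (h1 : σ ≠ 1) :
    (σ : Perm (Fin n)).cycleType = {2, 2} := by
  have hσ : orderOf (σ : Perm (Fin n)) = 2 := by
    refine orderOf_eq_prime (by rw [pow_two]; exact congrArg Subtype.val h) fun e => h1 (Subtype.ext e)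
  obtain ⟨k, hk⟩ := Perm.cycleType_prime_order (show (orderOf (σ : Perm (Fin n))).Prime by rw [hσ]; exact Nat.prime_two)
  rw [hσ] at hk
  have hs := Perm.mem_alternatingGroup.1 σ.2
  rw [Perm.sign_of_cycleType, hk] at hs
  have hle := Perm.sum_cycleType (σ : Perm (Fin n))
  have hsup : ((σ : Perm (Fin n)).support).card ≤ n := (Finset.card_le_univ _).trans (by simp)
  rw [hk] at hle
  simp only [Multiset.sum_replicate, smul_eq_mul] at hle
  simp only [Multiset.sum_replicate, Multiset.card_replicate, smul_eq_mul] at hs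
  have hk3 : k ≤ 2 := by omega
  interval_cases k
  · exact absurd hs (by decide)
  · exact hk
  · exact absurd hs (by decide)

theorem no_extra_involution (n : ℕ) [Finite H] (hn : n ≤ 7)
    (hH : Cfsg.IsNonsplitDoubleCover H (alternatingGroup (Fin n))) :
    ∀ x : H, orderOf x = 2 → x ∈ center H := by
  obtain ⟨hZ, ⟨e⟩, hns⟩ := hH
  obtain ⟨z, hz1, hzc, hzz, hzall⟩ := center_pair hZ
  let q : H →* ↥(alternatingGroup (Fin n)) := e.toMonoidHom.comp (QuotientGroup.mk' (center H))
  have hq : Function.Surjective q := e.surjective.comp (QuotientGroup.mk'_surjective _)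
  have hker : ∀ w : H, q w = 1 ↔ w ∈ center H := fun w => by
    simp [q, QuotientGroup.eq_one_iff]
  intro x hx
  by_contra hxc
  have hxx : x * x = 1 := by rw [← pow_two, ← hx, pow_orderOf_eq_one]
  have hqx : q x ≠ 1 := fun h => hxc ((hker x).1 h)
  have hct := cycleType_small hn (q x) (by rw [← map_mul, hxx, map_one]) hqx
  have h4 : 4 ≤ n := by
    have := Perm.sum_cycleType ((q x : ↥(alternatingGroup (Fin n))) : Perm (Fin n))
    rw [hct] at this
    have hsup : (((q x : ↥(alternatingGroup (Fin n))) : Perm (Fin n)).support).card ≤ n :=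
      (Finset.card_le_univ _).trans (by simp)
    simp at this
    omega
  let i : ∀ k : ℕ, k < 4 → Fin n := fun k hk => ⟨k, by omega⟩
  let i0 := i 0 (by omega)
  let i1 := i 1 (by omega)
  let i2 := i 2 (by omega)
  let i3 := i 3 (by omega)
  have d01 : i0 ≠ i1 := by simp [i0, i1, i]
  have hlift : ∀ σ : ↥(alternatingGroup (Fin n)), σ * σ = 1 → ∀ w : H, q w = σ → σ ≠ 1 → w * w = 1 := by
    intro σ hσ w hw hσ1
    let a : ↥(alternatingGroup (Fin n)) := ⟨swap i0 i1 * swap i2 i3, Perm.mem_alternatingGroup.2 (by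
      rw [map_mul, Perm.sign_swap d01, Perm.sign_swap (by simp [i2, i3, i])]; rfl)⟩
    have hd : Perm.Disjoint (swap i0 i1) (swap i2 i3) := fun t => by
      by_cases h0 : t = i0 ∨ t = i1
      · exact Or.inr (swap_apply_of_ne_of_ne (by rcases h0 with rfl | rfl <;> simp [i0, i1, i2, i])
          (by rcases h0 with rfl | rfl <;> simp [i0, i1, i3, i]))
      · rw [not_or] at h0
        exact Or.inl (swap_apply_of_ne_of_ne h0.1 h0.2)
    have ha2 : a * a = 1 := Subtype.ext (by
      show swap i0 i1 * swap i2 i3 * (swap i0 i1 * swap i2 i3) = 1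
      rw [hd.commute.symm.mul_mul_mul_comm, swap_mul_self, swap_mul_self, one_mul])
    have ha1 : a ≠ 1 := fun h => by
      have h' := congrArg (fun p : ↥(alternatingGroup (Fin n)) => (p : Perm (Fin n)) i0) h
      have e : swap i2 i3 i0 = i0 := swap_apply_of_ne_of_ne (by simp [i0, i2, i]) (by simp [i0, i3, i])
      simp only [a, Perm.mul_apply, OneMemClass.coe_one, Perm.one_apply, e, swap_apply_left] at h'
      exact d01 h'.symm
    have hfix : Commute (swap i0 i1) (a : Perm (Fin n)) := (Commute.refl _).mul_right hd.commute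
    have hca := cycleType_small hn a ha2 ha1
    obtain ⟨c, hc⟩ := alt_conj a (q x) i0 i1 d01 hfix (by rw [hct, hca])
    obtain ⟨d, hd⟩ := alt_conj a σ i0 i1 d01 hfix (by rw [cycleType_small hn σ hσ hσ1, hca])
    obtain ⟨g, hg⟩ := hq (d * c⁻¹)
    have hw' : q (g * x * g⁻¹) = σ := by
      rw [map_mul, map_mul, map_inv, hg, hc, hd]; group
    have hsq : g * x * g⁻¹ * (g * x * g⁻¹) = 1 := by
      rw [show g * x * g⁻¹ * (g * x * g⁻¹) = g * (x * x) * g⁻¹ by group, hxx]; group
    rcases hzall (w * (g * x * g⁻¹)⁻¹) ((hker _).1 (by rw [map_mul, map_inv, hw', hw, mul_inv_cancel])) with h | h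
    · rw [mul_inv_eq_one.1 h]; exact hsq
    · rw [mul_inv_eq_iff_eq_mul.1 h]
      rw [mul_assoc, ← mul_assoc _ z, Subgroup.mem_center_iff.1 hzc, mul_assoc z (g * x * g⁻¹), hsq, mul_one, hzz]
  obtain ⟨a, b, m, hm, ha, hb, hab, hgen⟩ : ∃ (a b : ↥(alternatingGroup (Fin n))) (m : ℕ),
      0 < m ∧ (a * a = 1 ∧ a ≠ 1) ∧ (b * b = 1 ∧ b ≠ 1) ∧
      ((a * b) ^ m = 1 ∧ (m = 2 → a * b ≠ 1) ∧ (m = 4 → (a * b) * (a * b) ≠ 1) ∧ (m = 2 ∨ m = 4)) ∧
      Odd (Nat.card ↥(alternatingGroup (Fin n)) / (2 * m)) ∧ 2 * m ∣ Nat.card ↥(alternatingGroup (Fin n)) := by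
    obtain rfl | rfl | rfl | rfl : n = 4 ∨ n = 5 ∨ n = 6 ∨ n = 7 := by omega
    all_goals rw [nat_card_alternatingGroup, Nat.card_eq_fintype_card, Fintype.card_fin]
    · exact ⟨⟨swap 0 1 * swap 2 3, Perm.mem_alternatingGroup.2 (by decide)⟩, ⟨swap 0 2 * swap 1 3, Perm.mem_alternatingGroup.2 (by decide)⟩, 2, by decide +kernel⟩
    · exact ⟨⟨swap 0 1 * swap 2 3, Perm.mem_alternatingGroup.2 (by decide)⟩, ⟨swap 0 2 * swap 1 3, Perm.mem_alternatingGroup.2 (by decide)⟩, 2, by decide +kernel⟩
    · exact ⟨⟨swap 0 1 * swap 4 5, Perm.mem_alternatingGroup.2 (by decide)⟩, ⟨swap 0 2 * swap 1 3, Perm.mem_alternatingGroup.2 (by decide)⟩, 4, by decide +kernel⟩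
    · exact ⟨⟨swap 0 1 * swap 4 5, Perm.mem_alternatingGroup.2 (by decide)⟩, ⟨swap 0 2 * swap 1 3, Perm.mem_alternatingGroup.2 (by decide)⟩, 4, by decide +kernel⟩
  obtain ⟨A, hA⟩ := hq a
  obtain ⟨B, hB⟩ := hq b
  have hA2 := hlift a ha.1 A hA ha.2
  have hB2 := hlift b hb.1 B hB hb.2
  obtain ⟨habm, hab2, hab4, hm24⟩ := hab
  have hABm : (A * B) ^ m = 1 := by
    rcases hm24 with rfl | rfl
    · rw [pow_two]
      exact hlift (a * b) (by rw [← pow_two]; exact habm) _ (by rw [map_mul, hA, hB]) (hab2 rfl)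
    · rw [show 4 = 2 + 2 by rfl, pow_add, pow_two]
      exact hlift ((a * b) * (a * b)) (by rw [← pow_two, ← pow_two, ← pow_mul]; exact habm) _
        (by simp only [map_mul, hA, hB]) (hab4 rfl)
  let L := Subgroup.closure ({A, B} : Set H)
  have hcardL : Nat.card L ≤ 2 * m := card_closure_pair hA2 hB2 hm hABm
  let P := Subgroup.closure ({a, b} : Set ↥(alternatingGroup (Fin n)))
  have hmap : L.map q = P := by
    rw [MonoidHom.map_closure, Set.image_pair, hA, hB]
  have hPcard : 2 * m ≤ Nat.card P := by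
    have haP : a ∈ P := Subgroup.subset_closure (by simp)
    have hbP : b ∈ P := Subgroup.subset_closure (by simp)
    let r : P := ⟨a * b, P.mul_mem haP hbP⟩
    have hord : orderOf r = m := by
      rw [← Subgroup.orderOf_coe]
      show orderOf (a * b) = m
      rcases hm24 with rfl | rfl
      · exact orderOf_eq_prime (by exact habm) (hab2 rfl)
      · exact orderOf_eq_prime_pow (p := 2) (n := 1) (by rw [pow_one, pow_two]; exact hab4 rfl) (by exact habm)
    have hdvd : m ∣ Nat.card P := hord ▸ orderOf_dvd_natCard r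
    have hne : Subgroup.zpowers r ≠ ⊤ := by
      intro htop
      have hcy : ∀ u v : P, u * v = v * u := fun u v => by
        obtain ⟨i, rfl⟩ := Subgroup.mem_zpowers_iff.1 (htop ▸ Subgroup.mem_top u)
        obtain ⟨j, rfl⟩ := Subgroup.mem_zpowers_iff.1 (htop ▸ Subgroup.mem_top v)
        rw [← zpow_add, ← zpow_add, add_comm]
      have hc : a * b = b * a := congrArg Subtype.val (hcy ⟨a, haP⟩ ⟨b, hbP⟩)
      have h2 : (a * b) * (a * b) = 1 := by rw [mul_assoc, ← mul_assoc b, ← hc, mul_assoc a b, hb.1, mul_one, ha.1]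
      rcases hm24 with rfl | rfl
      · obtain ⟨i, hi⟩ := Subgroup.mem_zpowers_iff.1 (htop ▸ Subgroup.mem_top (⟨a, haP⟩ : P))
        have hi' : (a * b) ^ i = a := congrArg Subtype.val hi
        rcases Int.even_or_odd i with ⟨j, hj⟩ | ⟨j, hj⟩
        · rw [hj, ← two_mul, zpow_mul, zpow_two, h2, one_zpow] at hi'
          exact ha.2 hi'.symm
        · rw [hj, zpow_add_one, zpow_mul, zpow_two, h2, one_zpow, one_mul] at hi'
          exact hb.2 (mul_eq_left.1 hi')
      · exact hab4 rfl h2
    have hlt : Nat.card (Subgroup.zpowers r) < Nat.card P :=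
      lt_of_le_of_ne (Subgroup.card_le_card_group _) fun h => hne (Subgroup.eq_top_of_card_eq _ h)
    rw [Nat.card_zpowers, hord] at hlt
    obtain ⟨k, hk⟩ := hdvd
    rw [hk] at hlt ⊢
    rw [mul_comm 2 m]
    exact Nat.mul_le_mul_left m (by rcases k with _ | _ | k <;> omega)
  have hLP : Nat.card L = 2 * m ∧ Nat.card P = 2 * m := by
    have : Nat.card P ≤ Nat.card L := by rw [← hmap]; exact Nat.le_of_dvd Nat.card_pos (L.card_map_dvd q)
    omega
  have hinj : ∀ w ∈ center H, w ∈ L → w = 1 := by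
    intro w hw hwL
    let f : L → P := fun l => ⟨q l, hmap.le (Subgroup.mem_map_of_mem q l.2)⟩
    have hf : Function.Surjective f := fun p => by
      obtain ⟨l, hl, e'⟩ := Subgroup.mem_map.1 (hmap.ge p.2)
      exact ⟨⟨l, hl⟩, Subtype.ext e'⟩
    have hb' := (Nat.bijective_iff_surjective_and_card f).2 ⟨hf, by rw [hLP.1, hLP.2]⟩
    exact congrArg Subtype.val (hb'.1 (show f ⟨w, hwL⟩ = f 1 from Subtype.ext
      (((hker w).2 hw).trans (map_one q).symm)))
  have hindex : Odd (center H ⊔ L).index := by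
    have hle : q.ker ≤ center H ⊔ L := fun w hw => Subgroup.mem_sup_left ((hker w).1 hw)
    have h1 : ((center H ⊔ L).map q) = P := by
      rw [Subgroup.map_sup, hmap]
      refine sup_eq_right.2 fun p hp => ?_
      obtain ⟨w, hw, rfl⟩ := Subgroup.mem_map.1 hp
      rw [(hker w).2 hw]; exact P.one_mem
    rw [← Subgroup.index_map_eq _ hq hle, h1]
    have := P.card_mul_index
    rw [hLP.2] at this
    rw [← this, Nat.mul_div_cancel_left _ (by omega)] at hgen
    exact hgen.1
  obtain ⟨C, hC⟩ := split_of_odd_index hZ L hinj hindex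
  exact hns C hC

/-- The double cover of degree eight. -/
theorem cover_eight : ∃ (H : Type) (_ : Group H) (_ : Finite H),
    Cfsg.IsNonsplitDoubleCover H (alternatingGroup (Fin 8)) ∧ ∃ x y : H, x ≠ y ∧ orderOf x = 2 ∧ orderOf y = 2 := by
  classical
  have hker : proj.ker = center ↥cover := by
    refine le_antisymm (fun p hp => ?_) (fun p hp => ?_)
    · refine Subgroup.mem_center_iff.2 fun g => ?_
      rcases mem_ker_iff.1 hp with rfl | rfl
      · simp
      · exact Subtype.ext (Prod.ext (by simp [zed]) (Units.ext (by simp [zed])))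
    · have hc : proj p ∈ center ↥(alternatingGroup (Fin 8)) := Subgroup.mem_center_iff.2 fun g => by
        obtain ⟨g, rfl⟩ := proj_surjective g
        rw [← map_mul, ← map_mul, Subgroup.mem_center_iff.1 hp g]
      rwa [alternatingGroup.center_eq_bot (by simp), Subgroup.mem_bot] at hc
  have hZ : Nat.card (center ↥cover) = 2 := by
    rw [← hker, Nat.card_eq_two_iff]
    refine ⟨⟨1, map_one _⟩, ⟨zed, mem_ker_iff.2 (Or.inr rfl)⟩, fun h => zed_ne (congrArg Subtype.val h).symm, ?_⟩
    refine Set.eq_univ_of_forall fun w => ?_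
    rcases mem_ker_iff.1 w.2 with h | h
    · exact Or.inl (Subtype.ext h)
    · exact Or.inr (Subtype.ext h)
  let u2 : Matˣ := rootU (show (0 : Fin 8) ≠ 1 by decide) * rootU (show (2 : Fin 8) ≠ 3 by decide)
  let u4 : Matˣ := rootU (show (4 : Fin 8) ≠ 5 by decide) * rootU (show (6 : Fin 8) ≠ 7 by decide)
  have hu : ∀ (a b c d : Fin 8) (hab : a ≠ b) (hcd : c ≠ d) (i : Fin 8),
      ((rootU hab * rootU hcd : Matˣ) : Mat) * γ i =
        γ ((swap a b * swap c d) i) * ((rootU hab * rootU hcd : Matˣ) : Mat) := by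
    intro a b c d hab hcd i
    show root a b * root c d * γ i = _ * (root a b * root c d)
    rw [Matrix.mul_assoc, root_γ hcd, Matrix.mul_neg, ← Matrix.mul_assoc, root_γ hab, Matrix.neg_mul, neg_neg,
      Matrix.mul_assoc, Perm.mul_apply]
  have hsq : ∀ (a b c d : Fin 8) (hab : a ≠ b) (hcd : c ≠ d), a ≠ c → a ≠ d → b ≠ c → b ≠ d →
      ((rootU hab * rootU hcd : Matˣ) : Mat) * ((rootU hab * rootU hcd : Matˣ) : Mat) = -1 := by
    intro a b c d hab hcd h1 h2 h3 h4
    show root a b * root c d * (root a b * root c d) = -1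
    have e : root c d * root a b = -(root a b * root c d) := by rw [root_anti h1 h2 h3 h4, neg_neg]
    rw [Matrix.mul_assoc, ← Matrix.mul_assoc (root c d), e, Matrix.neg_mul, Matrix.mul_assoc (root a b) (root c d),
      root_sq hcd]
    simp [root_sq hab]
  let d2 : ↥cover := ⟨(⟨swap 0 1 * swap 2 3, Perm.mem_alternatingGroup.2 (by decide)⟩, u2), hu 0 1 2 3 _ _⟩
  let d4 : ↥cover := ⟨(⟨swap 4 5 * swap 6 7, Perm.mem_alternatingGroup.2 (by decide)⟩, u4), hu 4 5 6 7 _ _⟩
  have hd2 : d2 * d2 = zed := Subtype.ext (Prod.ext (Subtype.ext (by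
      show swap (0 : Fin 8) 1 * swap 2 3 * (swap 0 1 * swap 2 3) = 1; decide)) (Units.ext (by
      show (u2 : Mat) * (u2 : Mat) = ((-1 : Matˣ) : Mat)
      rw [hsq 0 1 2 3 _ _ (by decide) (by decide) (by decide) (by decide)]; simp)))
  have hd4 : d4 * d4 = zed := Subtype.ext (Prod.ext (Subtype.ext (by
      show swap (4 : Fin 8) 5 * swap 6 7 * (swap 4 5 * swap 6 7) = 1; decide)) (Units.ext (by
      show (u4 : Mat) * (u4 : Mat) = ((-1 : Matˣ) : Mat)
      rw [hsq 4 5 6 7 _ _ (by decide) (by decide) (by decide) (by decide)]; simp)))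
  have hcomm : d4 * d2 = d2 * d4 := by
    refine Subtype.ext (Prod.ext (Subtype.ext (by
      show swap (4 : Fin 8) 5 * swap 6 7 * (swap 0 1 * swap 2 3) = swap 0 1 * swap 2 3 * (swap 4 5 * swap 6 7)
      decide)) (Units.ext ?_))
    show root 4 5 * root 6 7 * (root 0 1 * root 2 3) = root 0 1 * root 2 3 * (root 4 5 * root 6 7)
    have m1 : root 6 7 * root 0 1 = -(root 0 1 * root 6 7) := root_anti (by decide) (by decide) (by decide) (by decide)
    have m2 : root 6 7 * root 2 3 = -(root 2 3 * root 6 7) := root_anti (by decide) (by decide) (by decide) (by decide)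
    have m3 : root 4 5 * root 0 1 = -(root 0 1 * root 4 5) := root_anti (by decide) (by decide) (by decide) (by decide)
    have m4 : root 4 5 * root 2 3 = -(root 2 3 * root 4 5) := root_anti (by decide) (by decide) (by decide) (by decide)
    rw [Matrix.mul_assoc, ← Matrix.mul_assoc (root 6 7), m1, Matrix.neg_mul, Matrix.mul_assoc (root 0 1), m2]
    simp only [Matrix.mul_neg, Matrix.neg_mul, neg_neg, ← Matrix.mul_assoc]
    rw [m3]
    simp only [Matrix.neg_mul, Matrix.mul_assoc]
    rw [← Matrix.mul_assoc (root 4 5) (root 2 3), m4]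
    simp only [Matrix.mul_neg, Matrix.neg_mul, neg_neg, Matrix.mul_assoc]
  have hinv : d2 * d4 * (d2 * d4) = 1 := by
    rw [mul_assoc, ← mul_assoc d4, hcomm, mul_assoc d2 d4, hd4, ← mul_assoc, hd2, zed_sq]
  haveI : Finite Matˣ := Finite.of_injective (fun u : Matˣ => (u : Mat)) Units.val_injective
  haveI : Finite ↥cover := Finite.of_injective _ Subtype.val_injective
  refine ⟨↥cover, inferInstance, inferInstance, ⟨hZ, ⟨(QuotientGroup.quotientMulEquivOfEq hker.symm).trans
    (QuotientGroup.quotientKerEquivOfSurjective proj proj_surjective)⟩, fun L hL => ?_⟩, d2 * d4, zed, ?_,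
    orderOf_eq_prime (by rw [pow_two]; exact hinv) ?_, orderOf_eq_prime (by rw [pow_two]; exact zed_sq) zed_ne⟩
  · obtain ⟨⟨c, l⟩, hcl, -⟩ := hL.existsUnique d2
    simp only at hcl
    have hc : proj (c : ↥cover) = 1 := hker.ge c.2
    have hll : (l : ↥cover) * l = zed := by
      have hcc : (c : ↥cover) * c = 1 := by
        rcases mem_ker_iff.1 hc with h | h <;> rw [h]
        · exact one_mul 1
        · exact zed_sq
      have : (c : ↥cover) * l * (c * l) = (c * c) * (l * l) := by
        rw [mul_assoc, ← mul_assoc (l : ↥cover), Subgroup.mem_center_iff.1 c.2 l]; simp only [mul_assoc]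
      rw [hcl, hd2, hcc, one_mul] at this
      exact this.symm
    have h1 : zed ∈ center ↥cover := hker ▸ mem_ker_iff.2 (Or.inr rfl)
    exact zed_ne (Subgroup.mem_bot.1 (hL.disjoint.le_bot ⟨h1, hll ▸ L.mul_mem l.2 l.2⟩))
  · intro h
    have := congrArg (fun p : ↥cover => ((p.1.1 : Perm (Fin 8)) 0)) h
    simp [d2, d4, zed] at this
    revert this
    decide
  · intro h
    have := congrArg (fun p : ↥cover => ((p.1.1 : Perm (Fin 8)) 0)) h
    simp [d2, d4] at this
    revert this
    decide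

end Cfsg.Agent.Lib.Spor.Spin
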